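import Groth.Agent.PrincBundLib.Descent

/-!
# The cohomology sequence of an exact sequence of groups, on torsors
-/

set_option autoImplicit false
set_option linter.style.haveILetI false
set_option backward.isDefEq.respectTransparency false

universe u

open CategoryTheory CategoryTheory.Limits MonoidalCategory CartesianMonoidalCategory MonObj
  AlgebraicGeometry

noncomputable section

namespace Groth.Agent.TorsorSeq

open Groth.Agent.PrincBundLib

variable {S : Scheme.{u}}

theorem equivariant_iff {G G' X X' : Over S} [GrpObj G] [GrpObj G'] (φ : G ⟶ G') (a : AlgGrp.Action G X)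
    (a' : AlgGrp.Action G' X') (f : X ⟶ X') :
    a.act ≫ f = lift (fst G X ≫ φ) (snd G X ≫ f) ≫ a'.act ↔
      ∀ (T : Over S) (g : T ⟶ G) (x : T ⟶ X), lift g x ≫ a.act ≫ f = lift (g ≫ φ) (x ≫ f) ≫ a'.act := by
  refine ⟨fun h T g x => by rw [h, comp_lift_assoc, lift_fst_assoc, lift_snd_assoc], fun h => ?_⟩
  have := h (G ⊗ X) (fst G X) (snd G X)
  rwa [lift_fst_snd, Category.id_comp] at this

theorem trivialAction_apply {G T : Over S} [GrpObj G] (g x : T ⟶ G) :
    lift g x ≫ (NonAbH1.trivialAction G).act = g * x := by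
  rw [Hom.mul_def]; rfl

/-- A morphism constant on all pairs of points comes from a point, if there are sections locally. -/
theorem exists_point_of_constant {X Z : Over S}
    (hX : NonAbH1.IsLocallyTrivialFor Scheme.fpqcPrecoverage X) (φ : X ⟶ Z)
    (hφ : ∀ (T : Over S) (x y : T ⟶ X), x ≫ φ = y ≫ φ) :
    ∃ f : 𝟙_ (Over S) ⟶ Z, toUnit X ≫ f = φ := by
  obtain ⟨R, hR, hs⟩ := hX
  obtain ⟨K, C, c, rfl⟩ := R.exists_eq_ofArrows
  have hs' : ∀ k, ∃ s : C k ⟶ X.left, s ≫ X.hom = c k := fun k => hs _ (Presieve.ofArrows.mk k)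
  choose s hs using hs'
  let p : ∀ k, Over.mk (c k) ⟶ X := fun k => Over.homMk (s k) (hs k)
  obtain ⟨f, hf, -⟩ := glue_points hR (𝟙_ (Over S)) (fun k => pullSnd _ (c k) ≫ p k ≫ φ)
    fun k l R a b _ => by
      have := hφ R (a ≫ pullSnd _ (c k) ≫ p k) (b ≫ pullSnd _ (c l) ≫ p l)
      simpa using this
  refine ⟨f, ext_points hR fun k => ?_⟩
  let y : pullObj X (c k) ⟶ pullObj (𝟙_ (Over S)) (c k) :=
    Over.homMk (pullback.lift (pullTo X (c k) ≫ toUnit X).left (pullback.snd X.hom (c k))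
      ((Over.w (pullTo X (c k) ≫ toUnit X)).trans pullback.condition)) (by
      show pullback.lift _ _ _ ≫ pullback.fst (𝟙_ (Over S)).hom (c k) ≫ (𝟙_ (Over S)).hom = _
      rw [pullback.lift_fst_assoc]
      exact Over.w (pullTo X (c k) ≫ toUnit X))
  have hy : y ≫ pullTo _ (c k) = pullTo X (c k) ≫ toUnit X := toUnit_unique _ _
  rw [← Category.assoc, ← hy, Category.assoc, hf, ← Category.assoc, ← Category.assoc]
  exact hφ _ _ _

variable {G G' G'' : Over S} [GrpObj G] [GrpObj G'] [GrpObj G''] {u : G' ⟶ G} {v : G ⟶ G''}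

/-- Two points with the same image differ by a unique point of the kernel. -/
theorem existsUnique_ker (hsq : IsPullback (fst G G') ((G ◁ u) ≫ μ[G]) v v) {T : Over S} (x y : T ⟶ G)
    (h : x ≫ v = y ≫ v) : ∃! k : T ⟶ G', x * (k ≫ u) = y := by
  obtain ⟨t, ht₁, ht₂⟩ := hsq.exists_lift x y h
  have hμ : ∀ t : T ⟶ G ⊗ G', t ≫ (G ◁ u) ≫ μ[G] = (t ≫ fst G G') * (t ≫ snd G G' ≫ u) := fun t => by
    rw [Hom.mul_def, ← Category.assoc]
    congr 1
    apply CartesianMonoidalCategory.hom_ext <;> simp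
  refine ⟨t ≫ snd G G', ?_, fun k hk => ?_⟩
  · show x * (t ≫ snd G G') ≫ u = y
    rw [Category.assoc, ← ht₂, hμ, ht₁]
  · have : lift x k = t := hsq.hom_ext (by rw [lift_fst, ht₁]) (by
      rw [hμ, lift_fst, lift_snd_assoc, hk, ht₂])
    rw [← this, lift_snd]

theorem eq_one_of_comp_eq_one [IsMonHom u] (hsq : IsPullback (fst G G') ((G ◁ u) ≫ μ[G]) v v) {T : Over S}
    (k : T ⟶ G') (hk : k ≫ u = 1) : k = 1 :=
  (existsUnique_ker hsq (1 : T ⟶ G) 1 rfl).unique (by rw [hk, _root_.mul_one])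
    (by rw [MonObj.one_comp, _root_.mul_one])

/-- A torsor becomes trivial in `G` iff it is the inverse image of a point of `G''`. -/
theorem trivial_iff [IsCommMonObj G] [IsCommMonObj G'] (hex : NonAbH1.IsExactSeq Scheme.fpqcPrecoverage u v)
    {X : Over S} (a : AlgGrp.Action G' X) (ha : NonAbH1.IsTorsorFor Scheme.fpqcPrecoverage a) :
    NonAbH1.IsPushforwardAlongSch u a (NonAbH1.trivialAction G) ↔
      ∃ (f : 𝟙_ (Over S) ⟶ G'') (i : X ⟶ G), NonAbH1.IsPullbackTorsor u v f i a := by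
  obtain ⟨hu, hv, huv, hsq, -⟩ := hex
  have tX := (isIso_lift_snd_iff a.act).mp ha.1
  constructor
  · rintro ⟨g₀, hg₀⟩
    have hg : ∀ (T : Over S) (k : T ⟶ G') (x : T ⟶ X), lift k x ≫ a.act ≫ g₀ = (k ≫ u) * (x ≫ g₀) :=
      fun T k x => ((equivariant_iff u a _ g₀).1 hg₀ T k x).trans (trivialAction_apply _ _)
    let i : X ⟶ G := g₀⁻¹
    have hi : ∀ (T : Over S) (k : T ⟶ G') (x : T ⟶ X), lift k x ≫ a.act ≫ i = (x ≫ i) * (k ≫ u)⁻¹ :=
      fun T k x => by
        simp only [i, GrpObj.comp_inv]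
        rw [hg, mul_inv_rev]
    obtain ⟨f, hf⟩ := exists_point_of_constant ha.2 (i ≫ v) fun T x y => by
      obtain ⟨k, rfl, -⟩ := tX T x y
      rw [Category.assoc, ← Category.assoc a.act, ← Category.assoc (lift k y), ← Category.assoc y,
        hi, MonObj.mul_comp, GrpObj.inv_comp, Category.assoc k, huv, MonObj.comp_one, inv_one, _root_.mul_one]
    refine ⟨f, i, hu, hv, ?_, hi⟩
    have huniq : ∀ {T : Over S} (x y : T ⟶ X), x ≫ i = y ≫ i → x = y := by
      intro T x y h
      obtain ⟨k, rfl, -⟩ := tX T x y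
      rw [Category.assoc, hi, mul_eq_left, inv_eq_one] at h
      rw [eq_one_of_comp_eq_one hsq k h, AlgGrp.Action.lift_one_act]
    refine ⟨⟨hf.symm⟩, ⟨PullbackCone.IsLimit.mk _ (fun c => (?_ : {q : c.pt ⟶ X // q ≫ i = c.fst}).1)
      (fun c => (_ : {q : c.pt ⟶ X // q ≫ i = c.fst}).2) (fun c => toUnit_unique _ _)
      fun c q hq _ => huniq q _ (hq.trans (_ : {q : c.pt ⟶ X // q ≫ i = c.fst}).2.symm)⟩⟩
    refine Classical.indefiniteDescription _ ?_
    obtain ⟨R, hR, hs⟩ := ha.2
    obtain ⟨K, C, d, rfl⟩ := R.exists_eq_ofArrows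
    have hs' : ∀ k, ∃ s : C k ⟶ X.left, s ≫ X.hom = d k := fun k => hs _ (Presieve.ofArrows.mk k)
    choose s hs using hs'
    let p : ∀ k, Over.mk (d k) ⟶ X := fun k => Over.homMk (s k) (hs k)
    have hloc : ∀ k, ∃ q : pullObj c.pt (d k) ⟶ X, q ≫ i = pullTo c.pt (d k) ≫ c.fst := by
      intro k
      let q₀ := pullSnd c.pt (d k) ≫ p k
      obtain ⟨g, hg, -⟩ := existsUnique_ker hsq (q₀ ≫ i) (pullTo c.pt (d k) ≫ c.fst) (by
        simp only [Category.assoc]
        rw [c.condition, ← hf]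
        simp only [← Category.assoc]
        congr 1
        exact toUnit_unique _ _)
      refine ⟨lift g⁻¹ q₀ ≫ a.act, ?_⟩
      rw [Category.assoc, hi, GrpObj.inv_comp, inv_inv, hg]
    choose q hq using hloc
    obtain ⟨Q, hQ, -⟩ := glue_points hR c.pt q fun k l V a b e => huniq _ _ (by
      rw [Category.assoc, hq, Category.assoc, hq, ← Category.assoc, e, Category.assoc])
    exact ⟨Q, ext_points hR fun k => by rw [← Category.assoc, hQ, hq]⟩
  · rintro ⟨f, i, -, -, -, hi⟩
    refine ⟨i⁻¹, (equivariant_iff u a _ _).2 fun T k x => ?_⟩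
    rw [trivialAction_apply]
    simp only [GrpObj.comp_inv]
    rw [hi, mul_inv_rev, inv_inv]

/-- A torsor becomes trivial in `G''` iff it comes from `G'`. -/
theorem image_iff [IsCommMonObj G''] (hex : NonAbH1.IsExactSeq Scheme.fpqcPrecoverage u v)
    (P : NonAbH1.TorsorSch G Scheme.fpqcPrecoverage) :
    NonAbH1.IsPushforwardAlongSch v P.act (NonAbH1.trivialAction G'') ↔
      ∃ Q : NonAbH1.TorsorSch G' Scheme.fpqcPrecoverage, NonAbH1.IsPushforwardAlongSch u Q.act P.act := by
  obtain ⟨hu, hv, huv, hsq, hloc⟩ := hex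
  have tP := (isIso_lift_snd_iff P.act.act).mp P.isTorsor.1
  constructor
  · rintro ⟨h, hh⟩
    have hh' : ∀ (T : Over S) (g : T ⟶ G) (x : T ⟶ P.X), lift g x ≫ P.act.act ≫ h = (g ≫ v) * (x ≫ h) :=
      fun T g x => ((equivariant_iff v P.act _ h).1 hh T g x).trans (trivialAction_apply _ _)
    let Q : Over S := pullback h η[G'']
    let i : Q ⟶ P.X := pullback.fst h η[G'']
    have hiQ : ∀ {T : Over S} (q : T ⟶ Q), (q ≫ i) ≫ h = 1 := fun {T} q => by
      rw [Category.assoc, pullback.condition, ← Category.assoc, Hom.one_def]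
      congr 1
      exact toUnit_unique _ _
    have hmem : ∀ {T : Over S} (x : T ⟶ P.X), x ≫ h = 1 → ∃ q : T ⟶ Q, q ≫ i = x := fun {T} x hx =>
      ⟨pullback.lift x (toUnit T) (hx.trans Hom.one_def), pullback.lift_fst _ _ _⟩
    have hext : ∀ {T : Over S} {q q' : T ⟶ Q}, q ≫ i = q' ≫ i → q = q' := fun {T q q'} e =>
      pullback.hom_ext e (toUnit_unique _ _)
    obtain ⟨act, hact⟩ := hmem (lift (fst G' Q ≫ u) (snd G' Q ≫ i) ≫ P.act.act) (by
      rw [Category.assoc, hh', Category.assoc, huv, MonObj.comp_one, hiQ, _root_.mul_one])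
    have hpt : ∀ (T : Over S) (k : T ⟶ G') (q : T ⟶ Q),
        lift k q ≫ act ≫ i = lift (k ≫ u) (q ≫ i) ≫ P.act.act := fun T k q => by
      rw [hact, comp_lift_assoc, lift_fst_assoc, lift_snd_assoc]
    let aQ : AlgGrp.Action G' Q :=
      { act := act
        one_act := hext (by
          rw [Category.assoc, hact, comp_lift_assoc]
          simp only [CartesianMonoidalCategory.whiskerRight_fst_assoc,
            CartesianMonoidalCategory.whiskerRight_snd_assoc, IsMonHom.one_hom u]
          rw [show fst (𝟙_ (Over S)) Q ≫ η[G] = (1 : (𝟙_ (Over S)) ⊗ Q ⟶ G) from by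
            rw [Hom.one_def, toUnit_unique (fst (𝟙_ (Over S)) Q) (toUnit _)], AlgGrp.Action.lift_one_act]
          rfl)
        mul_act := hext (by
          let g₁ := fst (G' ⊗ G') Q ≫ fst G' G'
          let g₂ := fst (G' ⊗ G') Q ≫ snd G' G'
          let q := snd (G' ⊗ G') Q
          have eA : (μ[G'] ▷ Q : (G' ⊗ G') ⊗ Q ⟶ G' ⊗ Q) = lift (g₁ * g₂) q := by
            apply CartesianMonoidalCategory.hom_ext
            · rw [lift_fst, CartesianMonoidalCategory.whiskerRight_fst, Hom.mul_def]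
              congr 1
              apply CartesianMonoidalCategory.hom_ext <;> simp [g₁, g₂]
            · simp [q]
          have eB : (α_ G' G' Q).hom ≫ (G' ◁ act) = lift g₁ (lift g₂ q ≫ act) := by
            apply CartesianMonoidalCategory.hom_ext
            · simp [g₁]
            · simp only [Category.assoc, lift_snd, CartesianMonoidalCategory.whiskerLeft_snd]
              rw [← Category.assoc]
              congr 1
              apply CartesianMonoidalCategory.hom_ext <;> simp [g₂, q]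
          rw [reassoc_of% eA, reassoc_of% eB]
          simp only [Category.assoc, hpt]
          rw [MonObj.mul_comp, AlgGrp.Action.lift_mul_act]) }
    refine ⟨⟨Q, aQ, (isIso_lift_snd_iff _).mpr ?_, ?_⟩, i, (equivariant_iff u aQ _ i).2 hpt⟩
    · intro T x w
      obtain ⟨g, hg, hgu⟩ := tP T (x ≫ i) (w ≫ i)
      have hgv : (1 : T ⟶ G) ≫ v = g ≫ v := by
        have := congrArg (· ≫ h) hg
        simp only [Category.assoc] at this
        rw [hh', ← Category.assoc, hiQ, _root_.mul_one] at this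
        rw [MonObj.one_comp, this]
        exact (hiQ x).symm
      obtain ⟨k, hk, hku⟩ := existsUnique_ker hsq _ _ hgv
      refine ⟨k, hext ?_, fun k' hk' => hku k' ?_⟩
      · rw [Category.assoc]
        exact (hpt T k w).trans (by rw [← _root_.one_mul (k ≫ u), hk, hg])
      · show (1 : T ⟶ G) * k' ≫ u = g
        rw [_root_.one_mul]
        refine hgu (k' ≫ u) ?_
        show lift (k' ≫ u) (w ≫ i) ≫ P.act.act = x ≫ i
        rw [← hpt, ← hk', Category.assoc]
    · obtain ⟨R, hR, hs⟩ := P.isTorsor.2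
      obtain ⟨K, C, c, rfl⟩ := R.exists_eq_ofArrows
      have hs' : ∀ k, ∃ s : C k ⟶ P.X.left, s ≫ P.X.hom = c k := fun k => hs _ (Presieve.ofArrows.mk k)
      choose s hs using hs'
      let p : ∀ k, Over.mk (c k) ⟶ P.X := fun k => Over.homMk (s k) (hs k)
      obtain ⟨R', hR', hs₂⟩ := hloc
      obtain ⟨L, D, d, rfl⟩ := R'.exists_eq_ofArrows
      have hs₂' : ∀ l, ∃ t : D l ⟶ G.left, t ≫ v.left = d l := fun l => hs₂ _ (Presieve.ofArrows.mk l)
      choose t ht using hs₂'
      let y : ∀ k, C k ⟶ G''.left := fun k => (p k ≫ h).left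
      have hcov : ∀ k, Presieve.ofArrows (fun l => pullback (y k) (d l)) (fun l => pullback.fst (y k) (d l)) ∈
          Scheme.fpqcPrecoverage (C k) := fun k =>
        Precoverage.mem_coverings_of_isPullback d hR' (y k) (fun l => pullback.fst (y k) (d l))
          (fun l => pullback.snd (y k) (d l)) fun l => IsPullback.of_hasPullback _ _
      refine ⟨_, Precoverage.comp_mem_coverings c hR (fun k l => pullback.fst (y k) (d l)) hcov, ?_⟩
      rintro _ _ ⟨⟨k, l⟩⟩
      let T : Over S := Over.mk (pullback.fst (y k) (d l) ≫ c k)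
      let x₀ : T ⟶ P.X := Over.homMk (pullback.fst (y k) (d l) ≫ s k) (by
        rw [Category.assoc, hs k]
        rfl)
      let g : T ⟶ G := Over.homMk (pullback.snd (y k) (d l) ≫ t l) (by
        show (pullback.snd (y k) (d l) ≫ t l) ≫ G.hom = pullback.fst (y k) (d l) ≫ c k
        rw [Category.assoc, ← Over.w v, reassoc_of% (ht l), ← pullback.condition_assoc]
        exact congrArg (pullback.fst (y k) (d l) ≫ ·) (Over.w (p k ≫ h)))
      have hgx : g ≫ v = x₀ ≫ h := Over.OverMorphism.ext (by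
        show (pullback.snd (y k) (d l) ≫ t l) ≫ v.left = (pullback.fst (y k) (d l) ≫ s k) ≫ h.left
        rw [Category.assoc, ht l, ← pullback.condition, Category.assoc]
        rfl)
      obtain ⟨q, -⟩ := hmem (lift g⁻¹ x₀ ≫ P.act.act) (by
        rw [Category.assoc, hh', GrpObj.inv_comp, hgx, inv_mul_cancel])
      exact ⟨q.left, Over.w q⟩
  · rintro ⟨Q, q', hq'⟩
    haveI := hu; haveI := hv
    obtain ⟨r, ⟨hr, -⟩, -⟩ := existsUnique_pushMap u v Q.act P.act (NonAbH1.trivialAction G'') Q.isTorsor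
      P.isTorsor q' hq' 1 ((equivariant_iff (u ≫ v) Q.act _ (1 : Q.X ⟶ G'')).2 fun T k x => by
        rw [trivialAction_apply, huv, MonObj.comp_one, MonObj.comp_one, MonObj.comp_one, MonObj.comp_one,
          _root_.mul_one])
    exact ⟨r, hr⟩

end Groth.Agent.TorsorSeq
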